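import Groth.Agent.BF92.Main
import Groth.Agent.Lib.Curves.GlobalSections
import Groth.Agent.Lib.Ample.Pow
import Groth.Agent.Lib.JacCrit.OverField
import Groth.Agent.H4.CurveThrough

/-!
# Birational invariance of the spaces of tensor forms
-/

set_option autoImplicit false
set_option linter.style.haveILetI false
universe u

open CategoryTheory CategoryTheory.Limits AlgebraicGeometry Opposite TopologicalSpace

namespace Groth.Agent.BF92

open Groth.Agent.Lib Groth.Agent.Lib.REqForms33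

noncomputable section

theorem str_top {k : Type u} [Field k] {X : Scheme.{u}} (f : X ⟶ Spec (CommRingCat.of k)) (c : k) :
    str f ⊤ c = f.appTop.hom ((Scheme.ΓSpecIso (CommRingCat.of k)).inv.hom c) := by
  simp [str, Scheme.Hom.appLE, Scheme.Hom.appTop]


theorem ev_chi_congr {k : Type u} [Field k] {X : Scheme.{u}} {f : X ⟶ Spec (CommRingCat.of k)} {i : ℕ}
    {L : X.Modules} (S : Setup f i L) (U : X.affineOpens) {R : Type u} [CommRing R] [Algebra k R]
    {χ χ' : Chi f U.1 R} (h : χ = χ') (m : ℕ) (δ : ℕ → Fin i → Derivation k R R)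
    (z : Γ(CohB1.tensorPow L m, U.1)) : ev S U χ m δ z = ev S U χ' m δ z := by
  subst h; rfl

/-- Birational smooth proper varieties have as many tensor forms. -/
theorem finrank_eq {k : Type u} [Field k] [PerfectField k] {X X' V : Scheme.{u}}
    [X.Over (Spec (CommRingCat.of k))] [X'.Over (Spec (CommRingCat.of k))] [IsIntegral X] [IsIntegral X']
    [IsProper (X ↘ (Spec (CommRingCat.of k)))] [IsProper (X' ↘ (Spec (CommRingCat.of k)))]
    (hreg : ∀ x : X, IsRegularLocalRing (X.presheaf.stalk x))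
    (hreg' : ∀ x : X', IsRegularLocalRing (X'.presheaf.stalk x))
    (j : V ⟶ X) (j' : V ⟶ X') [IsOpenImmersion j] [IsOpenImmersion j'] [IsAffine V] [Nonempty V]
    (hj : j' ≫ (X' ↘ Spec (CommRingCat.of k)) = j ≫ (X ↘ Spec (CommRingCat.of k)))
    {i : ℕ} {L : X.Modules} {L' : X'.Modules}
    (hL : ExtPow.IsExtPow i (Omega.sheaf (X ↘ Spec (CommRingCat.of k))) L)
    (hL' : ExtPow.IsExtPow i (Omega.sheaf (X' ↘ Spec (CommRingCat.of k))) L') (m : ℕ) :
    Module.finrank k (Coh.HH X (CohB1.tensorPow L m) 0) = Module.finrank k (Coh.HH X' (CohB1.tensorPow L' m) 0) := by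
  classical
  set f := X ↘ Spec (CommRingCat.of k) with hf
  set f' := X' ↘ Spec (CommRingCat.of k) with hf'
  haveI : Smooth f := Groth.Agent.H4.CurveThrough.smooth_of_regular_closed f fun x _ => hreg x
  haveI : Smooth f' := Groth.Agent.H4.CurveThrough.smooth_of_regular_closed f' fun x _ => hreg' x
  haveI : IsLocallyNoetherian X := LocallyOfFiniteType.isLocallyNoetherian f
  haveI : IsLocallyNoetherian X' := LocallyOfFiniteType.isLocallyNoetherian f'
  obtain ⟨S⟩ := nonempty_setup (f := f) hL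
  obtain ⟨S'⟩ := nonempty_setup (f := f') hL'
  let W : X.affineOpens := ⟨j ''ᵁ ⊤, (isAffineOpen_top V).image_of_isOpenImmersion j⟩
  let W' : X'.affineOpens := ⟨j' ''ᵁ ⊤, (isAffineOpen_top V).image_of_isOpenImmersion j'⟩
  let ψ : Γ(X, W.1) →+* Γ(X', W'.1) := (j'.appIso ⊤).inv.hom.comp (j.appIso ⊤).hom.hom
  let φ : Γ(X', W'.1) →+* Γ(X, W.1) := (j.appIso ⊤).inv.hom.comp (j'.appIso ⊤).hom.hom
  have hstr : ∀ (Z : Scheme.{u}) (g : Z ⟶ Spec (CommRingCat.of k)) (o : V ⟶ Z) [IsOpenImmersion o] (c : k),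
      (o.appIso ⊤).hom.hom (str g (o ''ᵁ ⊤) c) = str (o ≫ g) ⊤ c := fun Z g o _ c => by
    rw [Scheme.Hom.appIso_hom']
    show (g.appLE ⊤ _ _ ≫ o.appLE _ _ _).hom _ = _
    rw [Scheme.Hom.appLE_comp_appLE]
    rfl
  have hjc : ∀ c, str (j' ≫ f') ⊤ c = str (j ≫ f) ⊤ c := by rw [hj]; exact fun _ => rfl
  have hψ : ∀ c, ψ (str f W.1 c) = str f' W'.1 c := fun c => by
    show (j'.appIso ⊤).inv.hom ((j.appIso ⊤).hom.hom _) = _
    rw [hstr X f j c, ← hjc, ← hstr X' f' j' c]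
    exact congr($((j'.appIso ⊤).hom_inv_id) _)
  have hφ : ∀ c, φ (str f' W'.1 c) = str f W.1 c := fun c => by
    show (j.appIso ⊤).inv.hom ((j'.appIso ⊤).hom.hom _) = _
    rw [hstr X' f' j' c, hjc, ← hstr X f j c]
    exact congr($((j.appIso ⊤).hom_inv_id) _)
  have hψφ : ∀ a, φ (ψ a) = a := fun a => by
    show (j.appIso ⊤).inv.hom ((j'.appIso ⊤).hom.hom ((j'.appIso ⊤).inv.hom ((j.appIso ⊤).hom.hom a))) = a
    have h1 : ∀ z, (j'.appIso ⊤).hom.hom ((j'.appIso ⊤).inv.hom z) = z := fun z => congr($((j'.appIso ⊤).inv_hom_id) z)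
    rw [h1]
    exact congr($((j.appIso ⊤).hom_inv_id) _)
  have hφψ : ∀ a, ψ (φ a) = a := fun a => by
    show (j'.appIso ⊤).inv.hom ((j.appIso ⊤).hom.hom ((j.appIso ⊤).inv.hom ((j'.appIso ⊤).hom.hom a))) = a
    have h1 : ∀ z, (j.appIso ⊤).hom.hom ((j.appIso ⊤).inv.hom z) = z := fun z => congr($((j.appIso ⊤).inv_hom_id) z)
    rw [h1]
    exact congr($((j'.appIso ⊤).hom_inv_id) _)
  letI : Algebra k X.functionField := ((X.presheaf.germ ⊤ (genericPoint X) trivial).hom.comp (str f ⊤)).toAlgebra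
  letI : Algebra k X'.functionField := ((X'.presheaf.germ ⊤ (genericPoint X') trivial).hom.comp (str f' ⊤)).toAlgebra
  obtain ⟨v₀⟩ := (inferInstance : Nonempty V)
  have hW : genericPoint X ∈ W.1 := generic_mem (A := W.1) (x := j v₀) ⟨v₀, trivial, rfl⟩
  have hW' : genericPoint X' ∈ W'.1 := generic_mem (A := W'.1) (x := j' v₀) ⟨v₀, trivial, rfl⟩
  have hn : ∀ x : X, IsIntegrallyClosed (X.presheaf.stalk x) := fun x =>
    haveI := hreg x; Lib.Regular.UFD.isIntegrallyClosed _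
  have hn' : ∀ x : X', IsIntegrallyClosed (X'.presheaf.stalk x) := fun x =>
    haveI := hreg' x; Lib.Regular.UFD.isIntegrallyClosed _
  have symm1 : ∀ s s', Rel S S' ψ hψ m s s' → Rel S' S φ hφ m s' s := fun s s' h R _ _ χ δ => by
    rw [h R (pullChi φ hφ χ) δ]
    refine ev_chi_congr _ _ ?_ m δ _
    obtain ⟨χh, _⟩ := χ
    simp only [pullChi, RingHom.comp_assoc, show φ.comp ψ = RingHom.id _ from RingHom.ext hψφ, RingHom.comp_id]
  have symm2 : ∀ s s', Rel S' S φ hφ m s' s → Rel S S' ψ hψ m s s' := fun s s' h R _ _ χ δ => by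
    rw [h R (pullChi ψ hψ χ) δ]
    refine ev_chi_congr _ _ ?_ m δ _
    obtain ⟨χh, _⟩ := χ
    simp only [pullChi, RingHom.comp_assoc, show ψ.comp φ = RingHom.id _ from RingHom.ext hφψ, RingHom.comp_id]
  choose Φ hΦ using exists_rel S S' ψ hψ m (fun _ => rfl) hW' hn'
  choose Ψ hΨ using exists_rel S' S φ hφ m (fun _ => rfl) hW hn
  letI := Lib.Curves.GlobalSections.secModule k (CohB1.tensorPow L m)
  letI := Lib.Curves.GlobalSections.secModule k (CohB1.tensorPow L' m)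
  let e : ((CohB1.tensorPow L m).val.obj (op ⊤) : Type u) ≃ₗ[k] ((CohB1.tensorPow L' m).val.obj (op ⊤) : Type u) :=
    { toFun := Φ
      map_add' := fun s t => Rel.unique S S' ψ hψ m (fun _ => rfl) hW' (hΦ (s + t)) ((hΦ s).add S S' ψ hψ m (hΦ t))
      map_smul' := fun c s => Rel.unique S S' ψ hψ m (fun _ => rfl) hW' (hΦ _) (by
        have h := (hΦ s).smul S S' ψ hψ m c
        rw [str_top, str_top] at h
        exact h)
      invFun := Ψ
      left_inv := fun s => Rel.unique S' S φ hφ m (fun _ => rfl) hW (hΨ (Φ s)) (symm1 _ _ (hΦ s))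
      right_inv := fun s => Rel.unique S S' ψ hψ m (fun _ => rfl) hW' (hΦ (Ψ s)) (symm2 _ _ (hΨ s)) }
  rw [(Lib.Curves.GlobalSections.h0Linear k (CohB1.tensorPow L m)).finrank_eq, e.finrank_eq,
    (Lib.Curves.GlobalSections.h0Linear k (CohB1.tensorPow L' m)).finrank_eq]

/-- The same from an isomorphism of opens. -/
theorem finrank_eq_of_iso {k : Type u} [Field k] [PerfectField k] {X X' : Scheme.{u}}
    [X.Over (Spec (CommRingCat.of k))] [X'.Over (Spec (CommRingCat.of k))] [IsIntegral X] [IsIntegral X']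
    [IsProper (X ↘ (Spec (CommRingCat.of k)))] [IsProper (X' ↘ (Spec (CommRingCat.of k)))]
    (hreg : ∀ x : X, IsRegularLocalRing (X.presheaf.stalk x))
    (hreg' : ∀ x : X', IsRegularLocalRing (X'.presheaf.stalk x))
    (U : X.Opens) (U' : X'.Opens) (hU : (U : Set X).Nonempty) (e : (U : Scheme.{u}) ≅ (U' : Scheme.{u}))
    (he : e.hom ≫ U'.ι ≫ (X' ↘ (Spec (CommRingCat.of k))) = U.ι ≫ (X ↘ (Spec (CommRingCat.of k))))
    {i : ℕ} {L : X.Modules} {L' : X'.Modules}
    (hL : ExtPow.IsExtPow i (Omega.sheaf (X ↘ Spec (CommRingCat.of k))) L)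
    (hL' : ExtPow.IsExtPow i (Omega.sheaf (X' ↘ Spec (CommRingCat.of k))) L') (m : ℕ) :
    Module.finrank k (Coh.HH X (CohB1.tensorPow L m) 0) = Module.finrank k (Coh.HH X' (CohB1.tensorPow L' m) 0) := by
  obtain ⟨x, hx⟩ := hU
  obtain ⟨A, hAU, hxA⟩ := Lib.Modules.AffineHom.exists_affine hx
  haveI : IsAffine (A.1 : Scheme.{u}) := A.2
  haveI : Nonempty (A.1 : Scheme.{u}) := ⟨⟨x, hxA⟩⟩
  refine finrank_eq hreg hreg' A.1.ι (X.homOfLE hAU ≫ e.hom ≫ U'.ι) ?_ hL hL' m
  simp only [Category.assoc, he, Scheme.homOfLE_ι_assoc]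

end

end Groth.Agent.BF92
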