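import Groth.Agent.Lib.REqForms33.Main
import Groth.Agent.Lib.RefHull.NormalAlg
import Groth.Agent.Lib.Regular.UFD
import Mathlib.RingTheory.LocalProperties.IntegrallyClosed

/-!
# Frames, divisibility of forms by values, regularity of values in codimension one
-/

set_option autoImplicit false
set_option linter.style.haveILetI false
universe u

open CategoryTheory CategoryTheory.Limits AlgebraicGeometry Opposite TopologicalSpace
open scoped TensorProduct

namespace Groth.Agent.BF92

open Groth.Agent.Lib Groth.Agent.Lib.REqForms33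
open Groth.Agent.Lib.Modules
open Groth.Agent.Lib.Modules.AffineHom (exists_affine)
open Groth.Agent.Lib.TensorMod.Dual (rs)

noncomputable section

variable {k : Type u} [Field k] {X : Scheme.{u}} {f : X ⟶ Spec (CommRingCat.of k)}
  {F : Type u} [Field F] [Algebra k F] {i : ℕ} {L : X.Modules}

/-- A derivation of the field preserving the image of the sections. -/
def Pres {U : X.Opens} (χ : Chi f U F) (D : Derivation k F F) : Prop :=
  ∀ b, ∃ c, D (χ.hom b) = χ.hom c

variable (S : Setup f i L)

/-- A basis of the exterior power with dual derivations. -/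
structure Frame (A : X.affineOpens) (χ : Chi f A.1 F) where
  ι : Type
  fin : Fintype ι
  dec : DecidableEq ι
  B : Module.Basis ι Γ(X, A.1) Γ(L, A.1)
  D : ι → Fin i → Derivation k F F
  pres : ∀ T a, Pres χ (D T a)
  dual : ∀ T T', form S A χ (D T) (B T') = if T' = T then 1 else 0

/-- Divisibility of a tensor form is detected on values. -/
theorem exists_div {A : X.affineOpens} {χ : Chi f A.1 F} (hinj : Function.Injective χ.hom) (Fr : Frame S A χ)
    (a : Γ(X, A.1)) (m : ℕ) (z : Γ(CohB1.tensorPow L m, A.1))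
    (hz : ∀ δ : ℕ → Fin i → Derivation k F F, (∀ l b, Pres χ (δ l b)) →
      ∃ c, ev S A χ m δ z = χ.hom (a * c)) : ∃ w, z = a • w := by
  classical
  induction m with
  | zero =>
    obtain ⟨c, hc⟩ := hz (fun _ _ => 0) fun _ _ b => ⟨0, by rw [Derivation.zero_apply, map_zero]⟩
    exact ⟨c, hinj hc⟩
  | succ m ih =>
    obtain ⟨t, rfl⟩ := (powEquiv S A m).surjective z
    obtain ⟨c, rfl⟩ := TensorProduct.eq_repr_basis_right Fr.B t
    have hc : ∀ T, ∃ w, c T = a • w := fun T => by
      refine ih (c T) fun δ hδ => ?_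
      obtain ⟨e, he⟩ := hz (Function.update δ m (Fr.D T)) fun l b => by
        by_cases h : l = m
        · subst h; rw [Function.update_self]; exact Fr.pres T b
        · rw [Function.update_of_ne h]; exact hδ l b
      refine ⟨e, ?_⟩
      simp only [Finsupp.sum, map_sum, ev_tmul, Function.update_self, Fr.dual, mul_ite, mul_one, mul_zero] at he
      rw [Finset.sum_ite_eq' c.support T] at he
      by_cases hT : T ∈ c.support
      · rw [if_pos hT] at he
        rw [← he]
        exact ev_congr S A χ m _ _ (fun l hl => (Function.update_of_ne hl.ne _ _).symm) _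
      · rw [if_neg hT] at he
        rw [Finsupp.notMem_support_iff.1 hT, map_zero, he]
    choose w hw using hc
    refine ⟨powEquiv S A m (c.support.sum fun T => w T ⊗ₜ Fr.B T), ?_⟩
    rw [← map_smul, Finset.smul_sum]
    refine congrArg (powEquiv S A m) (Finset.sum_congr rfl fun T _ => ?_)
    rw [TensorProduct.smul_tmul', ← hw]

theorem eq_of_ev {A : X.affineOpens} {χ : Chi f A.1 F} (hinj : Function.Injective χ.hom) (Fr : Frame S A χ)
    (m : ℕ) (z z' : Γ(CohB1.tensorPow L m, A.1))
    (h : ∀ δ : ℕ → Fin i → Derivation k F F, ev S A χ m δ z = ev S A χ m δ z') : z = z' := by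
  obtain ⟨w, hw⟩ := exists_div S hinj Fr 0 m (z - z') fun δ _ => ⟨0, by rw [map_sub, h, sub_self, mul_zero, map_zero]⟩
  rwa [zero_smul, sub_eq_zero] at hw

section Generic

variable [IsIntegral X] [Algebra k (X.functionField : Type u)]
  (halg : ∀ c : k, algebraMap k X.functionField c = X.presheaf.germ ⊤ (genericPoint X) trivial (str f ⊤ c))

omit [IsIntegral X] in
theorem generic_mem {A : X.Opens} [IrreducibleSpace X] {x : X} (hx : x ∈ A) : genericPoint X ∈ A :=
  ((genericPoint_spec X).mem_open_set_iff A.2).2 ⟨x, trivial, hx⟩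

include halg in
/-- The generic point as a point of an open. -/
def chiGen {A : X.Opens} (hη : genericPoint X ∈ A) : Chi f A X.functionField :=
  ⟨(X.presheaf.germ A (genericPoint X) hη).hom, fun c => by
    rw [halg, ← res_str f (le_top : A ≤ ⊤)]
    exact TopCat.Presheaf.germ_res_apply X.presheaf (homOfLE le_top) _ hη _⟩

theorem chiGen_injective {A : X.Opens} (hη : genericPoint X ∈ A) : Function.Injective (chiGen halg hη).hom :=
  haveI : Nonempty A := ⟨⟨_, hη⟩⟩
  germ_injective_of_isIntegral X (genericPoint X) hη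

theorem chiGen_res {A B : X.Opens} (h : B ≤ A) (hη : genericPoint X ∈ B) :
    (chiGen halg hη).res h = chiGen halg (h hη) := by
  have e : ((chiGen halg hη).res h).hom = (chiGen halg (h hη)).hom := RingHom.ext fun b =>
    TopCat.Presheaf.germ_res_apply X.presheaf (homOfLE h) _ hη b
  revert e
  generalize (chiGen halg hη).res h = a, chiGen halg (h hη) = b
  obtain ⟨a, _⟩ := a
  obtain ⟨b, _⟩ := b
  rintro (rfl : a = b)
  rfl

theorem through_chiGen {A : X.Opens} (hA : IsAffineOpen A) (hη : genericPoint X ∈ A) :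
    Through hA (chiGen halg hη) (X.fromSpecStalk (genericPoint X)) :=
  hA.fromSpecStalk_eq_fromSpecStalk hη

include halg in
theorem generic_over : X.fromSpecStalk (genericPoint X) ≫ f =
    Spec.map (CommRingCat.ofHom (algebraMap k X.functionField)) := by
  obtain ⟨A, -, hA⟩ := exists_affine (show genericPoint X ∈ (⊤ : X.Opens) from trivial)
  rw [← through_chiGen halg A.2 hA, Category.assoc, fromSpec_comp, ← Spec.map_comp, ← CommRingCat.ofHom_comp]
  congr 2
  exact RingHom.ext (chiGen halg hA).hom_str

/-- Frames exist near any point. -/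
theorem exists_frame [Smooth f] [QuasiSeparated f] {x : X} {O : X.Opens} (hx : x ∈ O) :
    ∃ (A : X.affineOpens) (hη : genericPoint X ∈ A.1), x ∈ A.1 ∧ A.1 ≤ O ∧
      Nonempty (Frame S A (chiGen halg hη)) := by
  classical
  have hE : FlatMod.IsFinLocFree (Omega.sheaf f) :=
    Kaehler.LocFree.isFinLocFree_of_smooth (Kaehler.DOmega.isUniversal_dOmega f)
  obtain ⟨U₀, n, hxU, ⟨iso⟩⟩ := hE x
  obtain ⟨e₀, he₀⟩ := TensorMod.Basis.exists_basis_of_iso iso
  obtain ⟨A, hA', hxA⟩ := exists_affine (show x ∈ U₀ ⊓ O from ⟨hxU, hx⟩)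
  have hA : A.1 ≤ U₀ := hA'.trans inf_le_left
  have hη : genericPoint X ∈ A.1 := generic_mem hxA
  refine ⟨A, hη, hxA, hA'.trans inf_le_right, ?_⟩
  have he := he₀.res hA
  let b : Module.Basis (Fin n) Γ(X, A.1) Γ(Omega.sheaf f, A.1) :=
    Module.Basis.ofEquivFun (LinearEquiv.ofBijective
      (Fintype.linearCombination Γ(X, A.1) fun j => rs (Omega.sheaf f) le_rfl (rs (Omega.sheaf f) hA (e₀ j))) (by
        rw [show ⇑(Fintype.linearCombination Γ(X, A.1) fun j => rs (Omega.sheaf f) le_rfl (rs (Omega.sheaf f) hA (e₀ j))) =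
          TensorMod.Basis.comb (fun j => rs (Omega.sheaf f) hA (e₀ j)) le_rfl from
          funext fun a => by simp only [Fintype.linearCombination_apply, TensorMod.Basis.comb]]
        exact he A.1 le_rfl)).symm
  haveI : Nonempty A.1 := ⟨⟨x, hxA⟩⟩
  haveI := functionField_isFractionRing_of_isAffineOpen X A.1 A.2
  letI : Algebra k Γ(X, A.1) := (str f A.1).toAlgebra
  let χ := chiGen halg hη
  haveI : IsScalarTower k Γ(X, A.1) X.functionField :=
    IsScalarTower.of_algebraMap_eq fun c => (χ.hom_str c).symm
  let δA : Fin n → Derivation k Γ(X, A.1) Γ(X, A.1) := fun a =>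
    { toFun := fun y => b.coord a (OmegaSh.dSect f A.1 y)
      map_add' := fun y y' => (congrArg (b.coord a) (OmegaSh.dSect_add f A.1 y y')).trans (map_add _ _ _)
      map_smul' := fun c y => by
        show b.coord a (OmegaSh.dSect f A.1 (str f A.1 c * y)) = str f A.1 c * b.coord a (OmegaSh.dSect f A.1 y)
        rw [OmegaSh.dSect_mul, show OmegaSh.dSect f A.1 (str f A.1 c) = 0 from
          OmAff.dSect_appLE f ⊤ A.1 (le_pre f A.1) _, smul_zero, add_zero, map_smul, smul_eq_mul]
      map_one_eq_zero' := by
        show b.coord a (OmegaSh.dSect f A.1 1) = 0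
        rw [← map_one (str f A.1), show OmegaSh.dSect f A.1 (str f A.1 1) = 0 from
          OmAff.dSect_appLE f ⊤ A.1 (le_pre f A.1) _, map_zero]
      leibniz' := fun y y' => by
        show b.coord a (OmegaSh.dSect f A.1 (y * y')) = _
        rw [OmegaSh.dSect_mul, map_add, map_smul, map_smul]
        rfl }
  choose DF hDF using fun a => exists_derivation_localization (R := X.functionField) (nonZeroDivisors Γ(X, A.1)) (δA a)
  have hθ : ∀ a y, theta A.2 χ (DF a) y = χ.hom (b.coord a y) := fun a y => by
    let θ' : Γ(Omega.sheaf f, A.1) →ₛₗ[χ.hom] X.functionField :=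
      { toFun := fun y => χ.hom (b.coord a y)
        map_add' := fun y y' => by rw [map_add, map_add]
        map_smul' := fun c y => by rw [map_smul, smul_eq_mul, map_mul]; rfl }
    refine theta_ext A.2 χ _ θ' (fun y => ?_) y
    exact (theta_d A.2 χ (DF a) y).trans (hDF a y)
  refine ⟨{
    ι := Set.powersetCard (Fin n) i
    fin := inferInstance
    dec := inferInstance
    B := (b.exteriorPower i).map (S.equiv A).symm
    D := fun T a => DF (Set.powersetCard.ofFinEmbEquiv.symm T a)
    pres := fun T a y => ⟨_, hDF _ y⟩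
    dual := fun T T' => ?_ }⟩
  show wedge A.2 χ (fun a => DF (Set.powersetCard.ofFinEmbEquiv.symm T a))
    (S.equiv A (((b.exteriorPower i).map (S.equiv A).symm) T')) = _
  rw [Module.Basis.map_apply, LinearEquiv.apply_symm_apply, exteriorPower.basis_apply, exteriorPower.ιMulti_family]
  refine (wedge_ιMulti A.2 χ _ _).trans ?_
  have hmat : ∀ p q, valMat A.2 χ (fun a => DF (Set.powersetCard.ofFinEmbEquiv.symm T a))
      (b ∘ Set.powersetCard.ofFinEmbEquiv.symm T') p q =
      if Set.powersetCard.ofFinEmbEquiv.symm T' p = Set.powersetCard.ofFinEmbEquiv.symm T q then 1 else 0 := by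
    intro p q
    refine (hθ _ _).trans ?_
    rw [Function.comp_apply, Module.Basis.coord_apply, Module.Basis.repr_self, Finsupp.single_apply]
    split_ifs <;> simp
  by_cases hTT : T' = T
  · subst hTT
    rw [if_pos rfl, show valMat A.2 χ (fun a => DF (Set.powersetCard.ofFinEmbEquiv.symm T' a))
        (b ∘ Set.powersetCard.ofFinEmbEquiv.symm T') = 1 from
      Matrix.ext fun p q => by
        rw [hmat, Matrix.one_apply]
        simp only [EmbeddingLike.apply_eq_iff_eq], Matrix.det_one]
  · rw [if_neg hTT]
    obtain ⟨a, ha, ha'⟩ : ∃ a, a ∈ T'.1 ∧ a ∉ T.1 := by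
      by_contra hc
      push Not at hc
      exact hTT (Subtype.ext (Finset.eq_of_subset_of_card_le hc (by
        rw [Set.powersetCard.card_eq, Set.powersetCard.card_eq])))
    obtain ⟨p, rfl⟩ := Set.powersetCard.mem_range_ofFinEmbEquiv_symm_iff_mem T' a |>.2 ha
    refine Matrix.det_eq_zero_of_row_eq_zero p fun q => ?_
    rw [hmat, if_neg]
    exact fun h => ha' (h ▸ (Set.powersetCard.mem_range_ofFinEmbEquiv_symm_iff_mem T _).1 ⟨q, rfl⟩)

end Generic

end

end Groth.Agent.BF92
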