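import Groth.Agent.BF92.Frame
import Groth.Agent.Lib.Regular.UFD

/-!
# Values of forms of a proper variety are regular in codimension one
-/

set_option autoImplicit false
set_option linter.style.haveILetI false
universe u

open CategoryTheory CategoryTheory.Limits AlgebraicGeometry Opposite TopologicalSpace
open scoped TensorProduct

namespace Groth.Agent.BF92

open Groth.Agent.Lib Groth.Agent.Lib.REqForms33
open Groth.Agent.Lib.Modules
open Groth.Agent.Lib.TensorMod.Dual (rs)

noncomputable section

variable {k : Type u} [Field k] {X : Scheme.{u}} {f : X ⟶ Spec (CommRingCat.of k)}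
  {F : Type u} [Field F] [Algebra k F] {i : ℕ} {L : X.Modules} (S : Setup f i L) (m : ℕ)
  (s : Γ(CohB1.tensorPow L m, (⊤ : X.Opens)))

/-- A discrete valuation ring at a height one prime. -/
theorem valuationRing_atPrime (R : Type u) [CommRing R] [IsDomain R] [IsNoetherianRing R] [IsIntegrallyClosed R]
    (p : Ideal R) [p.IsPrime] (hp : p.height = 1) : ValuationRing (Localization.AtPrime p) := by
  haveI : IsNoetherianRing (Localization.AtPrime p) :=
    IsLocalization.isNoetherianRing p.primeCompl _ inferInstance
  haveI : IsIntegrallyClosed (Localization.AtPrime p) :=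
    isIntegrallyClosed_of_isLocalization _ p.primeCompl p.primeCompl_le_nonZeroDivisors
  have h : ringKrullDim (Localization.AtPrime p) = 1 := by
    rw [IsLocalization.AtPrime.ringKrullDim_eq_height p, hp]; rfl
  have hnf : ¬ IsField (Localization.AtPrime p) := fun hf => by
    letI := hf.toField
    rw [ringKrullDim_eq_zero_of_field] at h
    exact zero_ne_one h
  haveI : Ring.KrullDimLE 1 (Localization.AtPrime p) := Ring.krullDimLE_iff.mpr (le_of_eq h)
  haveI : Ring.DimensionLEOne (Localization.AtPrime p) :=
    ⟨fun hp' hP => Ring.krullDimLE_one_iff_of_noZeroDivisors.1 ‹_› _ hp' hP⟩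
  haveI : IsDedekindDomain (Localization.AtPrime p) := {}
  haveI : IsDiscreteValuationRing (Localization.AtPrime p) :=
    ((IsDiscreteValuationRing.TFAE _ hnf).out 2 0 (rfl) (rfl)).mp inferInstance
  infer_instance

/-- The value at a point over a fraction field lies in the normal ring. -/
theorem exists_value_eq {R : Type u} [CommRing R] [IsDomain R] [IsNoetherianRing R] [IsIntegrallyClosed R]
    [Algebra k R] [Algebra R F] [IsScalarTower k R F] [IsFractionRing R F] [IsProper f]
    (g : Spec (CommRingCat.of F) ⟶ X) (hg : g ≫ f = Spec.map (CommRingCat.ofHom (algebraMap k F)))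
    (δ : ℕ → Fin i → Derivation k F F)
    (hδ : ∀ l a b, ∃ c, δ l a (algebraMap R F b) = algebraMap R F c)
    {v : F} (hv : IsVal S m s g δ v) : ∃ c, algebraMap R F c = v := by
  classical
  refine RefHull.NormalAlg.mem_range_of_forall_height_one v fun p hp hp1 => ?_
  haveI := hp
  have hinj : Function.Injective (algebraMap R F) := IsFractionRing.injective R F
  choose δR hδR using hδ
  let DR : ℕ → Fin i → Derivation k R R := fun l a =>
    { toFun := δR l a
      map_add' := fun x y => hinj (by rw [map_add, ← hδR, ← hδR, ← hδR, map_add, map_add])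
      map_smul' := fun c x => hinj (by
        show algebraMap R F (δR l a (c • x)) = algebraMap R F (c • δR l a x)
        rw [← hδR, Algebra.smul_def c x, map_mul (algebraMap R F), Algebra.smul_def c (δR l a x),
          map_mul (algebraMap R F), ← hδR, ← IsScalarTower.algebraMap_apply, ← Algebra.smul_def, ← Algebra.smul_def,
          Derivation.map_smul])
      map_one_eq_zero' := hinj (by
        show algebraMap R F (δR l a 1) = algebraMap R F 0
        rw [← hδR, map_one, Derivation.map_one_eq_zero, map_zero])
      leibniz' := fun x y => hinj (by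
        show algebraMap R F (δR l a (x * y)) = _
        rw [← hδR, map_mul, Derivation.leibniz, map_add, hδR, hδR]
        simp [smul_eq_mul, map_mul]) }
  let O := Localization.AtPrime p
  letI : Algebra O F := IsLocalization.localizationAlgebraOfSubmonoidLe O F p.primeCompl (nonZeroDivisors R)
    p.primeCompl_le_nonZeroDivisors
  haveI : IsScalarTower R O F := IsLocalization.localization_isScalarTower_of_submonoid_le O F p.primeCompl
    (nonZeroDivisors R) p.primeCompl_le_nonZeroDivisors
  haveI : IsFractionRing O F := IsFractionRing.isFractionRing_of_isDomain_of_isLocalization p.primeCompl O F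
  haveI : IsScalarTower k O F := IsScalarTower.of_algebraMap_eq fun c => by
    rw [IsScalarTower.algebraMap_apply k R O, ← IsScalarTower.algebraMap_apply R O F,
      ← IsScalarTower.algebraMap_apply k R F]
  haveI : ValuationRing O := valuationRing_atPrime R p hp1
  choose DO hDO using fun l a => exists_derivation_localization (R := O) p.primeCompl (DR l a)
  have hcomp : ∀ l a (x : O), δ l a (algebraMap O F x) = algebraMap O F (DO l a x) := fun l a =>
    compat_localization p.primeCompl (IsScalarTower.toAlgHom k O F) _ _ fun b => by
      show δ l a (algebraMap O F (algebraMap R O b)) = algebraMap O F (DO l a (algebraMap R O b))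
      rw [hDO, ← IsScalarTower.algebraMap_apply, ← IsScalarTower.algebraMap_apply]
      exact hδR l a b
  let sq : ValuativeCommSq f :=
    { R := O
      K := F
      i₁ := g
      i₂ := Spec.map (CommRingCat.ofHom (algebraMap k O))
      commSq := ⟨by rw [hg, ← Spec.map_comp, ← CommRingCat.ofHom_comp, ← IsScalarTower.algebraMap_eq]⟩ }
  obtain ⟨⟨gV, hgV1, hgV2⟩⟩ := (show ValuativeCriterion.Existence f from by
    have h : UniversallyClosed f := inferInstance
    rw [UniversallyClosed.eq_valuativeCriterion] at h
    exact h.1) sq
  obtain ⟨w, hw, -⟩ := exists_regular S m s gV hgV2 (IsScalarTower.toAlgHom k O F) DO δ δ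
    hcomp hcomp (vF := v) (by
      have : Spec.map (CommRingCat.ofHom (algebraMap O F)) ≫ gV = g := hgV1
      rw [this]; exact hv)
  obtain ⟨⟨a, t⟩, ht⟩ := IsLocalization.surj p.primeCompl w
  refine ⟨a, t.1, t.2, ?_⟩
  rw [← hw, IsScalarTower.algebraMap_apply R O F, IsScalarTower.algebraMap_apply R O F, ← map_mul, mul_comm, ht]

end

end Groth.Agent.BF92
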