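import Groth.Agent.BF92.Transfer
import Groth.Agent.BF92.Regular
import Groth.Agent.Lib.Curves.GlobalSections

/-!
# Tensor forms of smooth proper varieties are birational invariants
-/

set_option autoImplicit false
set_option linter.style.haveILetI false
universe u

open CategoryTheory CategoryTheory.Limits AlgebraicGeometry Opposite TopologicalSpace
open scoped TensorProduct

namespace Groth.Agent.BF92

open Groth.Agent.Lib Groth.Agent.Lib.REqForms33
open Groth.Agent.Lib.Modules
open Groth.Agent.Lib.Modules.AffineHom (exists_affine)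
open Groth.Agent.Lib.TensorMod.Dual (rs rf rs_rs rs_smul)

noncomputable section

variable {k : Type u} [Field k] {X X' : Scheme.{u}} {f : X ⟶ Spec (CommRingCat.of k)}
  {f' : X' ⟶ Spec (CommRingCat.of k)} {i : ℕ} {L : X.Modules} {L' : X'.Modules}
  (S : Setup f i L) (S' : Setup f' i L') {W : X.affineOpens} {W' : X'.affineOpens}
  (ψ : Γ(X, W.1) →+* Γ(X', W'.1)) (hψ : ∀ c, ψ (str f W.1 c) = str f' W'.1 c) (m : ℕ)

/-- Two global forms agree on the common open. -/
def Rel (s : Γ(CohB1.tensorPow L m, (⊤ : X.Opens))) (s' : Γ(CohB1.tensorPow L' m, (⊤ : X'.Opens))) : Prop :=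
  ∀ (R : Type u) [CommRing R] [Algebra k R] (χ : Chi f' W'.1 R) (δ : ℕ → Fin i → Derivation k R R),
    ev S' W' χ m δ (rs _ le_top s') = ev S W (pullChi ψ hψ χ) m δ (rs _ le_top s)

theorem Rel.add {s t : Γ(CohB1.tensorPow L m, (⊤ : X.Opens))} {s' t' : Γ(CohB1.tensorPow L' m, (⊤ : X'.Opens))}
    (h : Rel S S' ψ hψ m s s') (h' : Rel S S' ψ hψ m t t') : Rel S S' ψ hψ m (s + t) (s' + t') := by
  intro R _ _ χ δ
  rw [TensorSec.rs_add, TensorSec.rs_add, map_add, map_add, h, h']

theorem rs_str_smul (M : X.Modules) (U : X.Opens) (c : k) (s : Γ(M, (⊤ : X.Opens))) :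
    rs M (le_top : U ≤ ⊤) (str f ⊤ c • s) = str f U c • rs M le_top s := by
  rw [rs_smul]
  refine congrArg (· • _) ?_
  exact res_str f le_top c

theorem Rel.smul {s : Γ(CohB1.tensorPow L m, (⊤ : X.Opens))} {s' : Γ(CohB1.tensorPow L' m, (⊤ : X'.Opens))}
    (c : k) (h : Rel S S' ψ hψ m s s') :
    Rel S S' ψ hψ m (str f ⊤ c • s) (str f' ⊤ c • s') := by
  intro R _ _ χ δ
  rw [rs_str_smul, rs_str_smul, LinearMap.map_smulₛₗ, LinearMap.map_smulₛₗ, h,
    (pullChi ψ hψ χ).hom_str, χ.hom_str]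

section Generic

variable [IsIntegral X'] [Algebra k (X'.functionField : Type u)]
  (halg : ∀ c : k, algebraMap k X'.functionField c = X'.presheaf.germ ⊤ (genericPoint X') trivial (str f' ⊤ c))
  (hW' : genericPoint X' ∈ W'.1)

/-- The values of a global form do not depend on the chart. -/
theorem ev_chart {s' : Γ(CohB1.tensorPow L' m, (⊤ : X'.Opens))} {A B : X'.affineOpens}
    (hA : genericPoint X' ∈ A.1) (hB : genericPoint X' ∈ B.1)
    (δ : ℕ → Fin i → Derivation k X'.functionField X'.functionField) :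
    ev S' A (chiGen halg hA) m δ (rs _ le_top s') = ev S' B (chiGen halg hB) m δ (rs _ le_top s') := by
  obtain ⟨v, hv⟩ := exists_isVal S' m s' _ (generic_over halg) δ
  rw [hv A _ (through_chiGen halg A.2 hA), hv B _ (through_chiGen halg B.2 hB)]

variable [Smooth f'] [QuasiSeparated f']

include halg hW' in
theorem Rel.unique {s : Γ(CohB1.tensorPow L m, (⊤ : X.Opens))} {s' t' : Γ(CohB1.tensorPow L' m, (⊤ : X'.Opens))}
    (h : Rel S S' ψ hψ m s s') (h' : Rel S S' ψ hψ m s t') : s' = t' := by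
  refine TensorSec.section_ext _ s' t' fun x _ => ?_
  obtain ⟨A, hη, hxA, -, ⟨Fr⟩⟩ := exists_frame S' halg (x := x) (O := ⊤) trivial
  refine ⟨A.1, le_top, hxA, eq_of_ev S' (chiGen_injective halg hη) Fr m _ _ fun δ => ?_⟩
  rw [ev_chart S' m halg hη hW', ev_chart S' m halg hη hW' (s' := t'), h, h']

include halg hW' in
theorem exists_rel [IsProper f] [IsLocallyNoetherian X']
    (hnorm : ∀ x : X', IsIntegrallyClosed (X'.presheaf.stalk x))
    (s : Γ(CohB1.tensorPow L m, (⊤ : X.Opens))) : ∃ s', Rel S S' ψ hψ m s s' := by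
  classical
  obtain ⟨z₀, hz₀⟩ := ev_transfer ψ hψ S S' m (rs (CohB1.tensorPow L m) (le_top : W.1 ≤ ⊤) s)
  haveI : (CohB1.tensorPow L' m).IsQuasicoherent := qc_pow S' m
  let χX : Chi f W.1 X'.functionField := pullChi ψ hψ (chiGen halg hW')
  let gX : Spec (CommRingCat.of X'.functionField) ⟶ X := Spec.map (CommRingCat.ofHom χX.hom) ≫ W.2.fromSpec
  have hgX : gX ≫ f = Spec.map (CommRingCat.ofHom (algebraMap k X'.functionField)) := by
    rw [Category.assoc, fromSpec_comp, ← Spec.map_comp, ← CommRingCat.ofHom_comp]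
    congr 2
    exact RingHom.ext χX.hom_str
  -- sections with the prescribed values near every point
  have loc : ∀ x : X', ∃ (A : X'.affineOpens) (hη : genericPoint X' ∈ A.1) (_ : x ∈ A.1)
      (w : Γ(CohB1.tensorPow L' m, A.1)), ∀ δ, ev S' A (chiGen halg hη) m δ w =
        ev S' W' (chiGen halg hW') m δ z₀ := by
    intro x
    obtain ⟨A, hη, hxA, -, ⟨Fr⟩⟩ := exists_frame S' halg (x := x) (O := ⊤) trivial
    refine ⟨A, hη, hxA, ?_⟩
    obtain ⟨h, hh, hηh⟩ := A.2.exists_basicOpen_le (V := W'.1 ⊓ A.1) ⟨genericPoint X', ⟨hW', hη⟩⟩ hη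
    let D : X'.affineOpens := ⟨X'.basicOpen h, A.2.basicOpen h⟩
    obtain ⟨N, z, hz⟩ := (QCoh.Localizing.localizes_of_isAffineOpen (CohB1.tensorPow L' m) A.2 h).ext'
      (rs (CohB1.tensorPow L' m) (hh.trans inf_le_left) z₀)
    have hval : ∀ δ, ev S' A (chiGen halg hη) m δ z =
        (chiGen halg hη).hom h ^ N * ev S' W' (chiGen halg hW') m δ z₀ := fun δ => by
      rw [← chiGen_res halg (X'.basicOpen_le h) hηh, ev_res S' A D]
      refine (congrArg (ev S' D (chiGen halg hηh) m δ) hz).trans ?_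
      rw [LinearMap.map_smulₛₗ, ← ev_res S' W' D (hh.trans inf_le_left), chiGen_res, map_pow, smul_eq_mul]
      rfl
    haveI : Nonempty A.1 := ⟨⟨x, hxA⟩⟩
    haveI := IsLocallyNoetherian.component_noetherian A
    haveI : IsDomain Γ(X', A.1) := inferInstance
    haveI : IsIntegrallyClosed Γ(X', A.1) := by
      refine IsIntegrallyClosed.of_localization_maximal fun P _ hP => ?_
      haveI := hP
      let y : A.1 := ⟨A.2.fromSpec ⟨P, hP.isPrime⟩, A.2.range_fromSpec.le ⟨_, rfl⟩⟩
      letI := TopCat.Presheaf.algebra_section_stalk X'.presheaf y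
      have hy : A.2.primeIdealOf y = ⟨P, hP.isPrime⟩ :=
        A.2.fromSpec.isOpenEmbedding.injective (A.2.fromSpec_primeIdealOf y)
      haveI : IsLocalization.AtPrime (X'.presheaf.stalk y.1) P := by
        convert A.2.isLocalization_stalk y using 1
        rw [hy]
      haveI := hnorm y.1
      exact IsIntegrallyClosed.of_equiv
        (IsLocalization.algEquiv P.primeCompl (X'.presheaf.stalk y.1) (Localization.AtPrime P)).toRingEquiv
    haveI := functionField_isFractionRing_of_isAffineOpen X' A.1 A.2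
    letI : Algebra k Γ(X', A.1) := (str f' A.1).toAlgebra
    haveI : IsScalarTower k Γ(X', A.1) X'.functionField :=
      IsScalarTower.of_algebraMap_eq fun c => ((chiGen halg hη).hom_str c).symm
    obtain ⟨w, hw⟩ := exists_div S' (chiGen_injective halg hη) Fr (h ^ N) m z fun δ hδ => by
      obtain ⟨v, hv⟩ := exists_isVal S m s gX hgX δ
      have hv' : v = ev S' W' (chiGen halg hW') m δ z₀ := by
        rw [hz₀, ← hv W χX rfl]
      obtain ⟨c, hc⟩ := exists_value_eq (R := Γ(X', A.1)) S m s gX hgX δ (fun l a b => hδ l a b) hv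
      refine ⟨c, ?_⟩
      rw [hval, map_mul, map_pow, ← hv', ← hc]
      rfl
    refine ⟨w, fun δ => ?_⟩
    have h1 := hval δ
    rw [hw, LinearMap.map_smulₛₗ, map_pow, smul_eq_mul] at h1
    refine mul_left_cancel₀ (pow_ne_zero N fun h0 => ?_) h1
    have : h = 0 := chiGen_injective halg hη (h0.trans (map_zero _).symm)
    rw [this, Scheme.basicOpen_zero] at hηh
    exact hηh
  choose A hη hxA w hw using loc
  -- two sections with the same values agree on common opens
  have agree : ∀ (B B' : X'.affineOpens) (hB : genericPoint X' ∈ B.1) (hB' : genericPoint X' ∈ B'.1)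
      (y : Γ(CohB1.tensorPow L' m, B.1)) (y' : Γ(CohB1.tensorPow L' m, B'.1)),
      (∀ δ, ev S' B (chiGen halg hB) m δ y = ev S' B' (chiGen halg hB') m δ y') →
      rs (CohB1.tensorPow L' m) (inf_le_left : B.1 ⊓ B'.1 ≤ B.1) y = rs _ inf_le_right y' := by
    intro B B' hB hB' y y' hyy
    refine TensorSec.section_ext _ _ _ fun p hp => ?_
    obtain ⟨C, hC, hpC, hCle, ⟨Fr⟩⟩ := exists_frame S' halg (x := p) hp
    refine ⟨C.1, hCle, hpC, eq_of_ev S' (chiGen_injective halg hC) Fr m _ _ fun δ => ?_⟩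
    rw [rs_rs, rs_rs, ← ev_res S' B C (hCle.trans inf_le_left), ← ev_res S' B' C (hCle.trans inf_le_right),
      chiGen_res, chiGen_res]
    exact hyy δ
  obtain ⟨s', hs', -⟩ := TopCat.Sheaf.existsUnique_gluing'
    (⟨(CohB1.tensorPow L' m).presheaf, (CohB1.tensorPow L' m).isSheaf⟩ : TopCat.Sheaf Ab X')
    (fun x : X' => (A x).1) ⊤ (fun x => homOfLE le_top)
    (fun x _ => Opens.mem_iSup.2 ⟨x, hxA x⟩) w
    (fun x y => agree (A x) (A y) (hη x) (hη y) (w x) (w y) fun δ => (hw x δ).trans (hw y δ).symm)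
  refine ⟨s', ?_⟩
  have key : rs (CohB1.tensorPow L' m) (le_top : W'.1 ≤ ⊤) s' = z₀ := by
    refine TensorSec.section_ext _ _ _ fun p hp => ?_
    refine ⟨(A p).1 ⊓ W'.1, inf_le_right, ⟨hxA p, hp⟩, ?_⟩
    rw [rs_rs, ← rs_rs (CohB1.tensorPow L' m) (le_top : (A p).1 ≤ ⊤) inf_le_left]
    rw [show rs (CohB1.tensorPow L' m) (le_top : (A p).1 ≤ ⊤) s' = w p from hs' p]
    exact agree (A p) W' (hη p) hW' (w p) z₀ (hw p)
  intro R _ _ χ δ
  rw [key, hz₀]

end Generic

end

end Groth.Agent.BF92
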