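import Groth.Agent.BF92.Final
import Groth.Prelude.Def_Canon

/-!
# The first tensor power
-/

set_option autoImplicit false
universe u

open CategoryTheory AlgebraicGeometry

namespace Groth.Agent.BF92

theorem finrank_congr {k : Type u} [Field k] {X : Scheme.{u}} [X.Over (Spec (CommRingCat.of k))] {M N : X.Modules}
    (e : M ≅ N) (n : ℕ) : Module.finrank k (Coh.HH X M n) = Module.finrank k (Coh.HH X N n) :=
  LinearEquiv.finrank_eq (LinearEquiv.ofLinear (Canon.HHlin k e.hom n) (Canon.HHlin k e.inv n)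
    (LinearMap.ext fun s => by
      show Sheaf.H.map ((SheafOfModules.toSheaf X.ringCatSheaf).map e.hom) n
        (Sheaf.H.map ((SheafOfModules.toSheaf X.ringCatSheaf).map e.inv) n s) = s
      rw [← Sheaf.H.map_comp_apply]
      erw [← Functor.map_comp, e.inv_hom_id, CategoryTheory.Functor.map_id]
      exact Sheaf.H.map_id_apply _)
    (LinearMap.ext fun s => by
      show Sheaf.H.map ((SheafOfModules.toSheaf X.ringCatSheaf).map e.inv) n
        (Sheaf.H.map ((SheafOfModules.toSheaf X.ringCatSheaf).map e.hom) n s) = s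
      rw [← Sheaf.H.map_comp_apply]
      erw [← Functor.map_comp, e.hom_inv_id, CategoryTheory.Functor.map_id]
      exact Sheaf.H.map_id_apply _))

theorem finrank_eq_one {k : Type u} [Field k] [PerfectField k] {X X' : Scheme.{u}}
    [X.Over (Spec (CommRingCat.of k))] [X'.Over (Spec (CommRingCat.of k))] [IsIntegral X] [IsIntegral X']
    [IsProper (X ↘ (Spec (CommRingCat.of k)))] [IsProper (X' ↘ (Spec (CommRingCat.of k)))]
    (hreg : ∀ x : X, IsRegularLocalRing (X.presheaf.stalk x))
    (hreg' : ∀ x : X', IsRegularLocalRing (X'.presheaf.stalk x))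
    (U : X.Opens) (U' : X'.Opens) (hU : (U : Set X).Nonempty) (e : (U : Scheme.{u}) ≅ (U' : Scheme.{u}))
    (he : e.hom ≫ U'.ι ≫ (X' ↘ (Spec (CommRingCat.of k))) = U.ι ≫ (X ↘ (Spec (CommRingCat.of k))))
    {i : ℕ} {L : X.Modules} {L' : X'.Modules}
    (hL : ExtPow.IsExtPow i (Omega.sheaf (X ↘ Spec (CommRingCat.of k))) L)
    (hL' : ExtPow.IsExtPow i (Omega.sheaf (X' ↘ Spec (CommRingCat.of k))) L') :
    Module.finrank k (Coh.HH X L 0) = Module.finrank k (Coh.HH X' L' 0) := by
  have h := finrank_eq_of_iso hreg hreg' U U' hU e he hL hL' 1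
  rwa [finrank_congr (Groth.Agent.Lib.Ample.Pow.powOne L) 0,
    finrank_congr (Groth.Agent.Lib.Ample.Pow.powOne L') 0] at h

end Groth.Agent.BF92
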