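import Groth.Agent.Lib.REqForms33.Main

/-!
# Transferring forms along an isomorphism of affine opens
-/

set_option autoImplicit false
set_option linter.style.haveILetI false
universe u

open CategoryTheory CategoryTheory.Limits AlgebraicGeometry Opposite TopologicalSpace
open scoped TensorProduct

namespace Groth.Agent.BF92

open Groth.Agent.Lib.REqForms33
open Groth.Agent.Lib.Modules
open Groth.Agent.Lib.TensorMod.Dual (rs)

noncomputable section

variable {k : Type u} [Field k] {X X' : Scheme.{u}} {f : X ⟶ Spec (CommRingCat.of k)}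
  {f' : X' ⟶ Spec (CommRingCat.of k)}

/-- Pulling back a ring valued point along a map of rings of sections. -/
def pullChi {W : X.Opens} {W' : X'.Opens} (ψ : Γ(X, W) →+* Γ(X', W'))
    (hψ : ∀ c, ψ (str f W c) = str f' W' c) {R : Type u} [CommRing R] [Algebra k R] (χ : Chi f' W' R) :
    Chi f W R :=
  ⟨χ.hom.comp ψ, fun c => by rw [RingHom.comp_apply, hψ, χ.hom_str]⟩

variable {W : X.affineOpens} {W' : X'.affineOpens} (ψ : Γ(X, W.1) →+* Γ(X', W'.1))
  (hψ : ∀ c, ψ (str f W.1 c) = str f' W'.1 c)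

variable [QuasiSeparated f] [QuasiSeparated f'] in
theorem theta_transfer (x : Γ(Omega.sheaf f, W.1)) :
    ∃ x' : Γ(Omega.sheaf f', W'.1), ∀ (R : Type u) [CommRing R] [Algebra k R] (χ : Chi f' W'.1 R)
      (δ : Derivation k R R), theta W'.2 χ δ x' = theta W.2 (pullChi ψ hψ χ) δ x := by
  let N : Submodule Γ(X, W.1) Γ(Omega.sheaf f, W.1) :=
    { carrier := {x | ∃ x' : Γ(Omega.sheaf f', W'.1), ∀ (R : Type u) [CommRing R] [Algebra k R]
        (χ : Chi f' W'.1 R) (δ : Derivation k R R), theta W'.2 χ δ x' = theta W.2 (pullChi ψ hψ χ) δ x}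
      add_mem' := fun ⟨x', hx⟩ ⟨y', hy⟩ => ⟨x' + y', fun R _ _ χ δ => by rw [map_add, map_add, hx, hy]⟩
      zero_mem' := ⟨0, fun R _ _ χ δ => by rw [map_zero, map_zero]⟩
      smul_mem' := fun a x ⟨x', hx⟩ => ⟨ψ a • x', fun R _ _ χ δ => by
        rw [LinearMap.map_smulₛₗ, LinearMap.map_smulₛₗ, hx]; rfl⟩ }
  suffices h : x ∈ N from h
  haveI := Lib.Kaehler.ToSect.isIso_toSect f W.2 (isAffineOpen_top (Spec (CommRingCat.of k))) (le_pre f W.1)
  let T := OmAff.toSect f ⊤ W.1 (le_pre f W.1)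
  obtain ⟨w, rfl⟩ : ∃ w, T w = x := (ConcreteCategory.bijective_of_isIso T).2 x
  have hw : w ∈ Submodule.comap T.hom N := by
    letI := (f.appLE ⊤ W.1 (le_pre f W.1)).hom.toAlgebra
    have hle : Submodule.span Γ(X, W.1)
        (Set.range (CommRingCat.KaehlerDifferential.d (f := f.appLE ⊤ W.1 (le_pre f W.1)))) ≤
        Submodule.comap T.hom N := by
      rw [Submodule.span_le]
      rintro _ ⟨b, rfl⟩
      refine ⟨OmegaSh.dSect f' W'.1 (ψ b), fun R _ _ χ δ => ?_⟩
      show _ = theta W.2 _ δ (T (CommRingCat.KaehlerDifferential.d b))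
      rw [OmAff.toSect_d, theta_d, theta_d]
      rfl
    refine hle ?_
    have := KaehlerDifferential.span_range_derivation Γ(Spec (CommRingCat.of k), ⊤) Γ(X, W.1)
    exact this.symm.le (Submodule.mem_top (x := w))
  exact hw

variable {i : ℕ} {L : X.Modules} {L' : X'.Modules} (S : Setup f i L) (S' : Setup f' i L')

theorem form_transfer (y : Γ(L, W.1)) :
    ∃ y' : Γ(L', W'.1), ∀ (R : Type u) [CommRing R] [Algebra k R] (χ : Chi f' W'.1 R)
      (D : Fin i → Derivation k R R), form S' W' χ D y' = form S W (pullChi ψ hψ χ) D y := by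
  haveI := S.qs
  haveI := S'.qs
  let N : Submodule Γ(X, W.1) ↥(⋀[Γ(X, W.1)]^i Γ(Omega.sheaf f, W.1)) :=
    { carrier := {z | ∃ y' : Γ(L', W'.1), ∀ (R : Type u) [CommRing R] [Algebra k R] (χ : Chi f' W'.1 R)
        (D : Fin i → Derivation k R R), form S' W' χ D y' = wedge W.2 (pullChi ψ hψ χ) D z}
      add_mem' := fun ⟨x', hx⟩ ⟨y', hy⟩ => ⟨x' + y', fun R _ _ χ D => by rw [map_add, map_add, hx, hy]⟩
      zero_mem' := ⟨0, fun R _ _ χ D => by rw [map_zero, map_zero]⟩
      smul_mem' := fun a x ⟨x', hx⟩ => ⟨ψ a • x', fun R _ _ χ D => by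
        rw [LinearMap.map_smulₛₗ, LinearMap.map_smulₛₗ, hx]; rfl⟩ }
  suffices h : S.equiv W y ∈ N by
    obtain ⟨y', hy'⟩ := h
    exact ⟨y', fun R _ _ χ D => hy' R χ D⟩
  have hle : Submodule.span Γ(X, W.1)
      (Set.range (exteriorPower.ιMulti Γ(X, W.1) i (M := Γ(Omega.sheaf f, W.1)))) ≤ N := by
    rw [Submodule.span_le]
    rintro _ ⟨e, rfl⟩
    choose e' he' using fun a => theta_transfer ψ hψ (e a)
    refine ⟨(S'.equiv W').symm (exteriorPower.ιMulti _ i e'), fun R _ _ χ D => ?_⟩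
    show wedge W'.2 χ D (S'.equiv W' ((S'.equiv W').symm _)) = _
    rw [LinearEquiv.apply_symm_apply, wedge_ιMulti, wedge_ιMulti]
    exact congrArg Matrix.det (Matrix.ext fun a b => he' a R χ (D b))
  rw [exteriorPower.ιMulti_span] at hle
  exact hle trivial

theorem ev_transfer (m : ℕ) (z : Γ(CohB1.tensorPow L m, W.1)) :
    ∃ z' : Γ(CohB1.tensorPow L' m, W'.1), ∀ (R : Type u) [CommRing R] [Algebra k R] (χ : Chi f' W'.1 R)
      (δ : ℕ → Fin i → Derivation k R R), ev S' W' χ m δ z' = ev S W (pullChi ψ hψ χ) m δ z := by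
  induction m with
  | zero => exact ⟨ψ z, fun R _ _ χ δ => rfl⟩
  | succ m ih =>
    obtain ⟨t, rfl⟩ := (powEquiv S W m).surjective z
    induction t using TensorProduct.induction_on with
    | zero => exact ⟨0, fun R _ _ χ δ => by simp only [map_zero]⟩
    | tmul x y =>
      obtain ⟨x', hx'⟩ := ih x
      obtain ⟨y', hy'⟩ := form_transfer ψ hψ S S' y
      exact ⟨powEquiv S' W' m (x' ⊗ₜ y'), fun R _ _ χ δ => by rw [ev_tmul, ev_tmul, hx', hy']⟩
    | add a b ha hb =>
      obtain ⟨a', ha'⟩ := ha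
      obtain ⟨b', hb'⟩ := hb
      exact ⟨a' + b', fun R _ _ χ δ => by simp only [map_add, ha', hb']⟩

end

end Groth.Agent.BF92
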